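import Groth.Agent.GrpSchLib.OrbitDim
import Groth.Agent.FibDim.Semicont
import Groth.Agent.FibDim.RelDim
import Groth.Agent.FibDim.Minimal
import Groth.Agent.VarDim.Top

/-!
# Semicontinuity of orbit dimensions
-/

set_option autoImplicit false
set_option linter.style.haveILetI false
set_option linter.unusedSectionVars false
set_option maxHeartbeats 1000000

universe u

open CategoryTheory CategoryTheory.Limits MonoidalCategory CartesianMonoidalCategory AlgebraicGeometry
open scoped MonObj

attribute [local instance] CategoryTheory.Hom.monoid CategoryTheory.Hom.group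

noncomputable section

namespace Groth.Agent.Deform.OrbitSemi

open GrpSchLib (act_one act_mul)
open FibDim (rd)

variable {k : Type u} [Field k] [IsAlgClosed k] {G X : Over (Spec (CommRingCat.of k))} [GrpObj G]
  [LocallyOfFiniteType G.hom] [QuasiCompact G.hom] [LocallyOfFiniteType X.hom] [IsSeparated X.hom]
  (a : AlgGrp.Action G X)

local notation "𝟭k" => 𝟙_ (Over (Spec (CommRingCat.of k)))

/-- Rational translations commute with the orbit map. -/
theorem exists_translation (x : 𝟭k ⟶ X) (g : 𝟭k ⟶ G) :
    ∃ (M : G ≅ G) (T : X ≅ X), M.hom ≫ a.orbitMap x = a.orbitMap x ≫ T.hom ∧ (1 : 𝟭k ⟶ G) ≫ M.hom = g := by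
  let T : X ≅ X :=
    { hom := lift (toUnit X ≫ g) (𝟙 X) ≫ a.act
      inv := lift (toUnit X ≫ g)⁻¹ (𝟙 X) ≫ a.act
      hom_inv_id := by
        rw [← Category.assoc, comp_lift, Category.comp_id, GrpObj.comp_inv, ← Category.assoc (lift _ _ ≫ _),
          comp_toUnit, act_mul, inv_mul_cancel, act_one]
      inv_hom_id := by
        rw [← Category.assoc, comp_lift, Category.comp_id, ← Category.assoc (lift _ _ ≫ _),
          comp_toUnit, act_mul, mul_inv_cancel, act_one] }
  let M : G ≅ G :=
    { hom := (toUnit G ≫ g) * 𝟙 G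
      inv := (toUnit G ≫ g)⁻¹ * 𝟙 G
      hom_inv_id := by
        simp only [MonObj.comp_mul, GrpObj.comp_inv, ← Category.assoc, comp_toUnit, Category.comp_id]
        group
      inv_hom_id := by
        simp only [MonObj.comp_mul, ← Category.assoc, comp_toUnit, Category.comp_id]
        group }
  refine ⟨M, T, ?_, ?_⟩
  · simp only [M, T, AlgGrp.Action.orbitMap, ← Category.assoc, comp_lift, Category.comp_id, comp_toUnit]
    rw [act_mul]
  · simp only [M, MonObj.comp_mul, ← Category.assoc, toUnit_unique ((1 : 𝟭k ⟶ G) ≫ toUnit G) (𝟙 _), Category.id_comp,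
      Category.comp_id, _root_.mul_one]

theorem pt_apply {Z : Over (Spec (CommRingCat.of k))} (z : 𝟭k ⟶ Z) (p : (𝟭k).left) :
    z.left p = z.left (IsLocalRing.closedPoint k) :=
  congrArg z.left (Subsingleton.elim (α := PrimeSpectrum k) _ _)

/-- All fibres of an orbit map have the same dimension. -/
theorem fibreDimAt_orbitMap (x : 𝟭k ⟶ X) (z : G.left) :
    haveI : LocallyOfFiniteType (a.orbitMap x).left := by
      haveI : LocallyOfFiniteType ((a.orbitMap x).left ≫ X.hom) := by rw [Over.w]; infer_instance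
      exact locallyOfFiniteType_of_comp (a.orbitMap x).left X.hom
    FlatMor.fibreDimAt (a.orbitMap x).left z =
      FlatMor.fibreDimAt (a.orbitMap x).left ((1 : 𝟭k ⟶ G).left (IsLocalRing.closedPoint k)) := by
  haveI : LocallyOfFiniteType (a.orbitMap x).left := by
    haveI : LocallyOfFiniteType ((a.orbitMap x).left ≫ X.hom) := by rw [Over.w]; infer_instance
    exact locallyOfFiniteType_of_comp (a.orbitMap x).left X.hom
  let f := (a.orbitMap x).left
  let one : G.left := (1 : 𝟭k ⟶ G).left (IsLocalRing.closedPoint k)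
  have hclosed : ∀ w : G.left, IsClosed ({w} : Set G.left) → FlatMor.fibreDimAt f w = FlatMor.fibreDimAt f one := by
    intro w hw
    let g : 𝟭k ⟶ G := Over.homMk _ ((pointEquivClosedPoint G.hom).symm ⟨w, hw⟩).2
    have hg : g.left (IsLocalRing.closedPoint k) = w :=
      congrArg Subtype.val ((pointEquivClosedPoint G.hom).apply_symm_apply ⟨w, hw⟩)
    obtain ⟨M, T, hcomm, hM⟩ := exists_translation a x g
    haveI : IsIso M.hom.left := ((Over.forget _).mapIso M).isIso_hom
    haveI : IsIso T.hom.left := ((Over.forget _).mapIso T).isIso_hom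
    have sq : IsPullback M.hom.left f f T.hom.left :=
      IsPullback.of_horiz_isIso ⟨congrArg CommaMorphism.left hcomm⟩
    rw [FibDim.fibreDimAt_baseChange sq one, ← hg, ← hM]
    rfl
  haveI : JacobsonSpace G.left := LocallyOfFiniteType.jacobsonSpace G.hom
  obtain ⟨y, -, -, hy, -⟩ := FibDim.exists_fibreDimAt_eq f one
  obtain ⟨v, -, -, hv, -⟩ := FibDim.exists_fibreDimAt_eq f z
  have hdense : ∀ U : Set G.left, IsOpen U → (∀ w, IsClosed ({w} : Set G.left) → w ∉ U) → U = ∅ := fun U hU h => by
    by_contra hne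
    obtain ⟨w, hw, hwc⟩ := nonempty_inter_closedPoints (Z := U) (Set.nonempty_iff_ne_empty.mpr hne) hU.isLocallyClosed
    exact h w hwc hw
  refine le_antisymm ?_ ?_
  · rw [hy]
    by_contra hlt
    have h1 : IsOpen {w : G.left | FlatMor.fibreDimAt f w ≤ (rd f y : ℕ)} := FibDim.isOpen_fibreDimAt_le f _
    have h2 : IsClosed {w : G.left | FlatMor.fibreDimAt f w ≤ (rd f y : ℕ)}ᶜ := h1.isClosed_compl
    obtain ⟨w, hw, hwc⟩ := nonempty_inter_closedPoints
      (Z := {w : G.left | FlatMor.fibreDimAt f w ≤ (rd f y : ℕ)}ᶜ) ⟨z, hlt⟩ h2.isLocallyClosed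
    exact hw (le_of_eq ((hclosed w hwc).trans hy))
  · rw [hv]
    by_contra hlt
    have hU := hdense {w : G.left | FlatMor.fibreDimAt f w ≤ (rd f v : ℕ)} (FibDim.isOpen_fibreDimAt_le f _)
      (fun w hwc hw => hlt (by rw [← hclosed w hwc]; exact hw))
    exact (Set.eq_empty_iff_forall_notMem.mp hU) z (le_of_eq hv)

/-- The dimension of `G`. -/
theorem exists_dim : ∃ n : ℕ, (∀ z : G.left, VarDim.deg G.hom z ≤ n) ∧ ∃ z : G.left, VarDim.deg G.hom z = n := by
  haveI : CompactSpace G.left := QuasiCompact.compactSpace_of_compactSpace G.hom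
  haveI : Nonempty G.left := ⟨(η[G] : 𝟭k ⟶ G).left (IsLocalRing.closedPoint k)⟩
  obtain ⟨y, -, hy, -⟩ := VarDim.exists_deg_eq_topologicalKrullDim (p := G.hom)
  exact ⟨_, hy, y, rfl⟩

/-- **Orbit dimension plus stabiliser dimension is the dimension of the group.** -/
theorem dim_orbit_le_iff {n : ℕ} (hn : ∀ z : G.left, VarDim.deg G.hom z ≤ n)
    (hn' : ∃ z : G.left, VarDim.deg G.hom z = n) (x : 𝟭k ⟶ X) (r : ℕ) :
    topologicalKrullDim ↥(closure (Set.range (a.orbitMap x).left)) ≤ (r : WithBot ℕ∞) ↔
      ∀ m : ℕ, FlatMor.fibreDimAt (a.orbitMap x).left ((1 : 𝟭k ⟶ G).left (IsLocalRing.closedPoint k)) ≤ (m : WithBot ℕ∞) →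
        n ≤ m + r := by
  haveI : LocallyOfFiniteType (a.orbitMap x).left := by
    haveI : LocallyOfFiniteType ((a.orbitMap x).left ≫ X.hom) := by rw [Over.w]; infer_instance
    exact locallyOfFiniteType_of_comp (a.orbitMap x).left X.hom
  let f := (a.orbitMap x).left
  let one : G.left := (1 : 𝟭k ⟶ G).left (IsLocalRing.closedPoint k)
  obtain ⟨y, -, -, hy, -⟩ := FibDim.exists_fibreDimAt_eq f one
  have hs : ∀ z, FlatMor.fibreDimAt f z = ((rd f y : ℕ∞) : WithBot ℕ∞) := fun z =>
    (fibreDimAt_orbitMap a x z).trans hy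
  have hdeg : ∀ z, VarDim.deg G.hom z = VarDim.deg X.hom (f z) + rd f z := by
    intro z
    rw [VarDim.deg_eq_add f X.hom (Over.w (a.orbitMap x)) z]
    congr 1
    have h1 := FibDim.rd_eq_rdeg f z
    rw [← VarDim.fdeg_eq_rdeg f X.hom] at h1
    exact_mod_cast h1.symm
  have hrd : ∀ z, rd f z ≤ rd f y := fun z => by
    have h := FibDim.rd_le_fibreDimAt f (specializes_rfl : z ⤳ z) rfl
    rw [hs z] at h
    exact_mod_cast h
  have htop : ∀ z, VarDim.deg X.hom (f z) + rd f y ≤ n := fun z => by
    obtain ⟨z', hz', hfz', he, -⟩ := FibDim.exists_fibreDimAt_eq f z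
    have h : rd f z' = rd f y := by
      have := he.symm.trans (hs z)
      exact_mod_cast this
    have := hn z'
    rw [hdeg z', hfz', h] at this
    exact this
  have hclos : ∀ w ∈ closure (Set.range f), ∃ z, VarDim.deg X.hom w ≤ VarDim.deg X.hom (f z) := by
    intro w hw
    haveI : IsLocallyNoetherian G.left := LocallyOfFiniteType.isLocallyNoetherian G.hom
    haveI : CompactSpace G.left := QuasiCompact.compactSpace_of_compactSpace G.hom
    haveI : IsNoetherian G.left := { }
    have hfin : (irreducibleComponents G.left).Finite := TopologicalSpace.NoetherianSpace.finite_irreducibleComponents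
    have hsub : Set.range f ⊆ ⋃ C ∈ irreducibleComponents G.left, closure (f '' C) := by
      rintro _ ⟨z, rfl⟩
      exact Set.mem_iUnion₂.mpr ⟨irreducibleComponent z, irreducibleComponent_mem_irreducibleComponents z,
        subset_closure ⟨z, mem_irreducibleComponent, rfl⟩⟩
    have hcl : IsClosed (⋃ C ∈ irreducibleComponents G.left, closure (f '' C)) :=
      hfin.isClosed_biUnion fun _ _ => isClosed_closure
    obtain ⟨C, hC, hwC⟩ := Set.mem_iUnion₂.mp (closure_minimal hsub hcl hw)
    have hgen := hC.1.isGenericPoint_genericPoint (isClosed_of_mem_irreducibleComponents C hC)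
    refine ⟨hC.1.genericPoint, VarDim.deg_le_of_specializes X.hom ?_⟩
    exact (hgen.image f.continuous).specializes hwC
  rw [VarDim.topologicalKrullDim_set_eq_iSup_deg X.hom isClosed_closure]
  constructor
  · intro h m hm
    have hm' : rd f y ≤ m := by
      rw [hy] at hm
      exact_mod_cast hm
    obtain ⟨z, hz⟩ := hn'
    have h1 := le_trans (le_iSup_of_le (⟨f z, subset_closure ⟨z, rfl⟩⟩ : ↥(closure (Set.range f))) le_rfl) h
    have h2 : VarDim.deg X.hom (f z) ≤ r := by exact_mod_cast h1
    have h3 := hrd z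
    rw [hdeg z] at hz
    omega
  · intro h
    refine iSup_le fun w => ?_
    obtain ⟨z, hz⟩ := hclos w.1 w.2
    have h1 := htop z
    have h2 := h (rd f y) (le_of_eq hy)
    have : VarDim.deg X.hom w.1 ≤ r := by omega
    exact_mod_cast this

/-- **Semicontinuity of the orbit dimension.** -/
theorem exists_closed (r : ℕ) :
    ∃ Z : Set X.left, IsClosed Z ∧ ∀ x : 𝟭k ⟶ X,
      topologicalKrullDim ↥(closure (Set.range (a.orbitMap x).left)) ≤ (r : WithBot ℕ∞) ↔ Set.range x.left ⊆ Z := by
  obtain ⟨n, hn, hn'⟩ := exists_dim (G := G)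
  let Φ : G ⊗ X ⟶ X ⊗ X := lift a.act (snd G X)
  let Δ : X ⟶ X ⊗ X := lift (𝟙 X) (𝟙 X)
  let S := pullback Φ Δ
  let π : S ⟶ X := pullback.snd Φ Δ
  let e : X ⟶ S := pullback.lift (lift 1 (𝟙 X)) (𝟙 X) (by
    apply CartesianMonoidalCategory.hom_ext <;> simp [Φ, Δ, act_one])
  haveI : LocallyOfFiniteType π.left := by
    haveI : IsClosedImmersion Δ.left := by
      show IsClosedImmersion (pullback.diagonal X.hom)
      infer_instance
    haveI : LocallyOfFiniteType (G ⊗ X).hom := by rw [Over.tensorObj_hom]; infer_instance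
    haveI : IsClosedImmersion (pullback.fst Φ Δ).left :=
      MorphismProperty.of_isPullback (P := @IsClosedImmersion)
        ((IsPullback.of_hasPullback Φ Δ).map (Over.forget _)).flip (inferInstanceAs (IsClosedImmersion Δ.left))
    haveI : LocallyOfFiniteType S.hom := by rw [← Over.w (pullback.fst Φ Δ)]; infer_instance
    haveI : LocallyOfFiniteType (π.left ≫ X.hom) := by rw [Over.w π]; infer_instance
    exact locallyOfFiniteType_of_comp π.left X.hom
  have key : ∀ x : 𝟭k ⟶ X, FlatMor.fibreDimAt (a.orbitMap x).left ((1 : 𝟭k ⟶ G).left (IsLocalRing.closedPoint k)) =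
      FlatMor.fibreDimAt π.left (e.left (x.left (IsLocalRing.closedPoint k))) := by
    intro x
    haveI : LocallyOfFiniteType (a.orbitMap x).left := by
      haveI : LocallyOfFiniteType ((a.orbitMap x).left ≫ X.hom) := by rw [Over.w]; infer_instance
      exact locallyOfFiniteType_of_comp (a.orbitMap x).left X.hom
    let f := a.orbitMap x
    let P := pullback f x
    have hcond : ∀ {T : Over (Spec (CommRingCat.of k))} (g : T ⟶ G) (t : T ⟶ 𝟭k),
        lift g (t ≫ x) ≫ a.act = g ≫ f := fun {T} g t => by
      simp only [f, AlgGrp.Action.orbitMap, ← Category.assoc, comp_lift, Category.comp_id, comp_toUnit,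
        toUnit_unique t (toUnit T)]
    let c : P ⟶ S := pullback.lift (lift (pullback.fst f x) (pullback.snd f x ≫ x)) (pullback.snd f x ≫ x) (by
      apply CartesianMonoidalCategory.hom_ext
      · simp only [Φ, Δ, Category.assoc, lift_fst, Category.comp_id]
        rw [hcond, pullback.condition]
      · simp [Φ, Δ])
    have hc1 : c ≫ pullback.fst Φ Δ = lift (pullback.fst f x) (pullback.snd f x ≫ x) := pullback.lift_fst _ _ _
    have hc2 : c ≫ pullback.snd Φ Δ = pullback.snd f x ≫ x := pullback.lift_snd _ _ _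
    have hsq : IsPullback c (pullback.snd f x) π x := by
      refine ⟨⟨hc2⟩, ⟨PullbackCone.IsLimit.mk _ (fun s =>
        pullback.lift (s.fst ≫ pullback.fst Φ Δ ≫ fst G X) s.snd ?_) (fun s => ?_) (fun s => pullback.lift_snd _ _ _)
        (fun s m h1 h2 => ?_)⟩⟩
      · rw [← hcond _ s.snd]
        have h := congrArg (fun q => q ≫ fst X X) (pullback.condition (f := Φ) (g := Δ))
        have h' := congrArg (fun q => q ≫ snd X X) (pullback.condition (f := Φ) (g := Δ))
        simp only [Φ, Δ, Category.assoc, lift_fst, lift_snd, Category.comp_id] at h h'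
        have e1 : lift (s.fst ≫ pullback.fst Φ Δ ≫ fst G X) (s.snd ≫ x) = s.fst ≫ pullback.fst Φ Δ := by
          apply CartesianMonoidalCategory.hom_ext
          · simp
          · rw [lift_snd, Category.assoc, ← s.condition]
            exact congrArg (s.fst ≫ ·) h'.symm
        rw [e1, Category.assoc, ← s.condition]
        exact congrArg (s.fst ≫ ·) h
      · apply pullback.hom_ext
        · apply CartesianMonoidalCategory.hom_ext
          · rw [Category.assoc, Category.assoc, reassoc_of% hc1, lift_fst (pullback.fst f x) (pullback.snd f x ≫ x), pullback.lift_fst]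
            simp only [Category.assoc]
          · have h' := congrArg (fun q => q ≫ snd X X) (pullback.condition (f := Φ) (g := Δ))
            simp only [Φ, Δ, Category.assoc, lift_snd, Category.comp_id] at h'
            rw [Category.assoc, Category.assoc, reassoc_of% hc1, lift_snd (pullback.fst f x) (pullback.snd f x ≫ x), ← Category.assoc, pullback.lift_snd,
              ← s.condition]
            simp only [Category.assoc]
            exact congrArg (s.fst ≫ ·) h'.symm
        · rw [Category.assoc, hc2, ← Category.assoc, pullback.lift_snd]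
          exact s.condition.symm
      · apply pullback.hom_ext
        · rw [pullback.lift_fst, ← h1, Category.assoc, reassoc_of% hc1, lift_fst]
        · rw [pullback.lift_snd, h2]
    let p₁ : 𝟭k ⟶ P := pullback.lift 1 (𝟙 _) (by
      rw [Category.id_comp, ← hcond (1 : 𝟭k ⟶ G) (𝟙 _), Category.id_comp, act_one])
    haveI : LocallyOfFiniteType (pullback.snd f x).left :=
      MorphismProperty.of_isPullback (P := @LocallyOfFiniteType)
        ((IsPullback.of_hasPullback f x).map (Over.forget _)) (inferInstanceAs (LocallyOfFiniteType (a.orbitMap x).left))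
    haveI : LocallyOfFiniteType f.left := inferInstanceAs (LocallyOfFiniteType (a.orbitMap x).left)
    have sq1 : IsPullback (pullback.fst f x).left (pullback.snd f x).left f.left x.left :=
      (IsPullback.of_hasPullback f x).map (Over.forget _)
    have sq2 : IsPullback c.left (pullback.snd f x).left π.left x.left := hsq.map (Over.forget _)
    have h1 := FibDim.fibreDimAt_baseChange sq1 (p₁.left (IsLocalRing.closedPoint k))
    have h2 := FibDim.fibreDimAt_baseChange sq2 (p₁.left (IsLocalRing.closedPoint k))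
    have e1 : (pullback.fst f x).left (p₁.left (IsLocalRing.closedPoint k)) =
        (1 : 𝟭k ⟶ G).left (IsLocalRing.closedPoint k) := by
      rw [← Scheme.Hom.comp_apply, ← Over.comp_left, pullback.lift_fst]
    have e2 : c.left (p₁.left (IsLocalRing.closedPoint k)) = e.left (x.left (IsLocalRing.closedPoint k)) := by
      have hp1 : p₁ ≫ pullback.fst f x = 1 := pullback.lift_fst _ _ _
      have hp2 : p₁ ≫ pullback.snd f x = 𝟙 _ := pullback.lift_snd _ _ _
      have he1 : e ≫ pullback.fst Φ Δ = lift 1 (𝟙 X) := pullback.lift_fst _ _ _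
      have he2 : e ≫ pullback.snd Φ Δ = 𝟙 X := pullback.lift_snd _ _ _
      have h : p₁ ≫ c = x ≫ e := by
        apply pullback.hom_ext
        · rw [Category.assoc, hc1, Category.assoc, he1, comp_lift, comp_lift, hp1, reassoc_of% hp2, MonObj.comp_one,
            Category.comp_id]
        · rw [Category.assoc, hc2, reassoc_of% hp2, Category.assoc, he2, Category.comp_id]
      rw [← Scheme.Hom.comp_apply, ← Over.comp_left, h]
      rfl
    rw [← e1, ← e2]
    exact h1.symm.trans h2
  let O : Set X.left := ⋃ m ∈ {m : ℕ | m + r < n}, e.left ⁻¹' {s | FlatMor.fibreDimAt π.left s ≤ (m : WithBot ℕ∞)}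
  refine ⟨Oᶜ, ((isOpen_biUnion fun m _ => (FibDim.isOpen_fibreDimAt_le π.left m).preimage e.left.continuous)).isClosed_compl,
    fun x => ?_⟩
  rw [dim_orbit_le_iff a hn hn' x r, key x]
  constructor
  · intro h
    rintro _ ⟨p, rfl⟩ hp
    rw [pt_apply x p] at hp
    obtain ⟨m, hm, hm'⟩ := Set.mem_iUnion₂.mp hp
    have := h m hm'
    simp only [Set.mem_setOf_eq] at hm
    omega
  · intro h m hm
    by_contra hlt
    exact h ⟨IsLocalRing.closedPoint k, rfl⟩ (Set.mem_iUnion₂.mpr ⟨m, Nat.not_le.mp hlt, hm⟩)

end Groth.Agent.Deform.OrbitSemi
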